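import Cfsg.Agent.H94.J4.Model
import Cfsg.Agent.H84.J4N.Words

/-!
An element of order three of the trio group in the model, two generators of the normalizer of the
group it generates, their trivial centralizer, and the fixed vectors.
-/

set_option autoImplicit false
set_option maxRecDepth 100000

namespace H74.J4Tau

open H54.J4 (Pres gA gB ev)
open H84.J4N (pv lv psi wg sameW)
open H94.J4 (NN VV vec app act colHom)

/-- The word of the element of order three. -/
def thW : List ℕ := [1,0,1,0,2,0,2,0,1,0,1,0,1,0,1,0,1,0,2,0,2,0,1,0,1,0,1,0,1,0,1,0,2,0,2,0,1,0,1,0,1,0,1,0,1,0,2,0,2,0,1,0,1,0,1,0,1,0,1,0,2,0,2,0,1,0,1,0,1,0,1,0,1,0,2,0,2,0,1,0,1,0,1,0,1,0,1,0,2,0,2,0,1,0,1,0,1,0]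

/-- A word centralising the element of order three. -/
def cW : List ℕ := [1,0,1,0,2,0,2,0,1,0,1,0,1,0]

/-- A word inverting the element of order three. -/
def iW : List ℕ := [0,1,0,1,0,2,0,2,0,1,0,1,0,1,0,2,0,2,0,2,0,1,0,1,0,2,0,2,0,1,0,1,0,2,0,2,0,1,0,1,0,1,0,2,0,2,0,2,0,1,0,1,0,2,0,2,0]

/-- The fixed vectors of the element of order three. -/
def zMasks : List ℕ := [0, 414, 629, 1003, 1206, 1320, 1731, 1885]

/-- The element of order three of the model. -/
noncomputable def theta : NN := SemidirectProduct.inr (pv thW)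

/-- The centralising generator. -/
noncomputable def genC : NN := SemidirectProduct.inr (pv cW)

/-- The inverting generator. -/
noncomputable def genI : NN := SemidirectProduct.inr (pv iW)

theorem pv_theta_facts : sameW (thW ++ thW ++ thW) [] = true ∧
    sameW (cW ++ thW) (thW ++ cW) = true ∧ sameW (iW ++ thW) (thW ++ thW ++ iW) = true ∧
    sameW thW [] = false := by decide +kernel

theorem orderOf_theta : orderOf theta = 3 := by
  haveI : Fact (Nat.Prime 3) := ⟨Nat.prime_three⟩
  refine orderOf_eq_prime ?_ fun e => ?_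
  · have h := H84.J4N.pv_eq pv_theta_facts.1
    rw [H84.J4N.pv_append, H84.J4N.pv_append, H84.J4N.pv_nil] at h
    rw [theta, ← map_pow, pow_succ, pow_two, h, map_one]
  · have h : pv thW = 1 := SemidirectProduct.inr_injective (e.trans (map_one _).symm)
    have hs : sameW thW [] = true := by
      simp only [sameW, List.all_eq_true, List.mem_range, Nat.beq_eq]
      intro i hi
      have := H84.J4N.wg_spec thW ⟨i, hi⟩
      rw [h, map_one, inv_one] at this
      exact this
    rw [pv_theta_facts.2.2.2] at hs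
    exact absurd hs (by decide)

theorem genC_comm : Commute genC theta := by
  show genC * theta = theta * genC
  rw [genC, theta, ← map_mul, ← map_mul, ← H84.J4N.pv_append, ← H84.J4N.pv_append,
    H84.J4N.pv_eq pv_theta_facts.2.1]

theorem genI_conj : genI * theta * genI⁻¹ = theta⁻¹ := by
  have h3 : theta * theta = theta⁻¹ := eq_inv_of_mul_eq_one_left (by
    rw [← pow_two, ← pow_succ]
    have h := pow_orderOf_eq_one theta
    rw [orderOf_theta] at h
    exact h)
  rw [mul_inv_eq_iff_eq_mul, ← h3, genI, theta, ← map_mul, ← map_mul, ← map_mul,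
    ← H84.J4N.pv_append, ← H84.J4N.pv_append, ← H84.J4N.pv_append,
    H84.J4N.pv_eq pv_theta_facts.2.2.1]

/-- The columns of conjugation by a letter. -/
def letCols : ℕ → List ℕ
  | 0 => H94.J4.colsX
  | 1 => H94.J4.colsY.map (app H94.J4.colsY)
  | _ => H94.J4.colsY

/-- The columns of conjugation by a word. -/
def wordCols : List ℕ → List ℕ
  | [] => (List.range 11).map (2 ^ ·)
  | l :: w => (wordCols w).map (app (letCols l))

theorem lv_cols (l : ℕ) (m : ℕ) : act (lv l) (vec m) = vec (app (letCols l) m) := by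
  match l with
  | 0 => rw [show lv 0 = gA from rfl, H94.J4.act_gA]; exact H94.J4.colHom_vec H94.J4.colsX m
  | 1 =>
    have e : colHom (H94.J4.colsY.map (app H94.J4.colsY)) =
        (colHom H94.J4.colsY).comp (colHom H94.J4.colsY) := H94.J4.hom_ext fun j => by
      rw [MonoidHom.comp_apply, H94.J4.colHom_bv, H94.J4.colHom_bv, H94.J4.colHom_vec]
      exact congrArg vec ((by decide +kernel : ∀ j : Fin 11,
        (H94.J4.colsY.map (app H94.J4.colsY)).getD j 0 =
          app H94.J4.colsY (H94.J4.colsY.getD j 0)) j)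
    rw [show lv 1 = gB⁻¹ from rfl, map_inv, H94.J4.act_gB, ← H94.J4.colHom_vec,
      show letCols 1 = H94.J4.colsY.map (app H94.J4.colsY) from rfl, e]
    rfl
  | n + 2 => rw [show lv (n + 2) = gB from rfl, H94.J4.act_gB]; exact H94.J4.colHom_vec H94.J4.colsY m

theorem wordCols_length : ∀ w, (wordCols w).length = 11
  | [] => rfl
  | l :: w => by rw [wordCols, List.length_map, wordCols_length w]

theorem act_word (w : List ℕ) : ∀ m, act (pv w) (vec m) = vec (app (wordCols w) m) := by
  have key : (act (pv w)).toMonoidHom = colHom (wordCols w) := by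
    induction w with
    | nil =>
      refine H94.J4.hom_ext fun j => ?_
      rw [H94.J4.colHom_bv, wordCols, show ((List.range 11).map (2 ^ ·)).getD j.val 0 = 2 ^ j.val by
        simp [List.getD_eq_getElem?_getD, j.2], H94.J4.vec_two_pow]
      simp
    | cons l w ih =>
      refine H94.J4.hom_ext fun j => ?_
      have e := DFunLike.congr_fun ih (H94.J4.bv j)
      rw [MulEquiv.toMonoidHom_eq_coe, MonoidHom.coe_coe, H94.J4.colHom_bv] at e
      rw [MulEquiv.toMonoidHom_eq_coe, MonoidHom.coe_coe, H84.J4N.pv_cons, map_mul,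
        MulAut.mul_apply, e, lv_cols, H94.J4.colHom_bv]
      simp [wordCols, List.getD_eq_getElem?_getD, wordCols_length]
  intro m
  rw [← H94.J4.colHom_vec, ← key]
  rfl

theorem vec_inj {a b : ℕ} (ha : a < 2048) (hb : b < 2048) (h : vec a = vec b) : a = b := by
  refine Nat.eq_of_testBit_eq fun i => ?_
  rcases lt_or_ge i 11 with hi | hi
  · have := congrFun (congrArg Multiplicative.toAdd h) ⟨i, hi⟩
    simp only [vec, toAdd_ofAdd] at this
    revert this
    cases a.testBit i <;> cases b.testBit i <;> simp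
  · rw [Nat.testBit_lt_two_pow (lt_of_lt_of_le ha
        (Nat.pow_le_pow_right (by norm_num) hi : 2 ^ 11 ≤ 2 ^ i)),
      Nat.testBit_lt_two_pow (lt_of_lt_of_le hb
        (Nat.pow_le_pow_right (by norm_num) hi : 2 ^ 11 ≤ 2 ^ i))]

theorem exists_vec (v : VV) : ∃ m < 2048, vec m = v := by
  have h : Function.Bijective fun m : Fin 2048 => vec m.val := by
    rw [Fintype.bijective_iff_injective_and_card]
    exact ⟨fun a b e => Fin.ext (vec_inj a.2 b.2 e), by simp⟩
  obtain ⟨m, rfl⟩ := h.surjective v
  exact ⟨m, m.2, rfl⟩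

/-- The fixed vectors of `theta` are the listed ones. -/
theorem theta_fix : ((List.range 2048).all fun m =>
    (app (wordCols thW) m == m) == zMasks.contains m) = true := by decide +kernel

theorem theta_fix_iff {m : ℕ} (hm : m < 2048) :
    act (pv thW) (vec m) = vec m ↔ m ∈ zMasks := by
  have hlt : ∀ m < 2048, app (wordCols thW) m < 2048 := by decide +kernel
  have h := List.all_eq_true.1 theta_fix m (List.mem_range.2 hm)
  rw [act_word]
  simp only [beq_iff_eq] at h
  constructor
  · intro e
    have e' := vec_inj (hlt m hm) hm e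
    rw [e', beq_self_eq_true] at h
    exact List.contains_iff_mem.1 h.symm
  · intro hz
    rw [List.contains_iff_mem.2 hz, beq_iff_eq] at h
    rw [h]

theorem theta_comm_vec {m : ℕ} (hm : m ∈ zMasks) :
    Commute theta (SemidirectProduct.inl (vec m) : NN) := by
  have hlt : m < 2048 := (by decide : ∀ m ∈ zMasks, m < 2048) m hm
  have h := SemidirectProduct.inl_aut (φ := act) (pv thW) (vec m)
  rw [(theta_fix_iff hlt).2 hm] at h
  exact (mul_inv_eq_iff_eq_mul.1 h.symm)

/-- The words of the two generators. -/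
def pairW (k : ℕ) : List ℕ := if k = 0 then cW else iW

/-- For every position a word in the generators carrying the first position there. -/
def reachW : List (List ℕ) := [[], [1], [0], [0, 1, 0, 1, 0, 1], [0, 0, 1, 0, 1, 0, 1], [1, 0, 0, 0, 1], [0, 1, 0, 0], [0, 1, 0, 1, 0, 0, 0], [0, 0], [1, 0], [0, 0, 1, 0, 1, 0], [0, 1, 0, 0, 1], [0, 1, 0, 1], [0, 0, 1, 0], [0, 1], [1, 0, 0], [0, 1, 0, 1, 0, 0], [1, 0, 0, 0], [0, 1, 0], [0, 0, 1], [0, 0, 1, 0, 1], [0, 0, 1, 0, 1, 0, 0], [1, 0, 0, 0, 0], [0, 1, 0, 1, 0]]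

/-- Words in the generators fixing the first position only. -/
def stabW : List (List ℕ) := [[0, 0, 0, 1], [0, 1, 0, 1, 0, 1, 0]]

theorem reach_ok : ((List.range 24).all fun i =>
    Nat.beq (wg ((reachW.getD i []).flatMap pairW) 0) i) = true := by decide +kernel

theorem stab_ok : ((List.range 24).all fun c => Nat.beq c 0 ||
    (stabW.any fun s => !Nat.beq (wg (s.flatMap pairW) c) c)) = true ∧
    (stabW.all fun s => Nat.beq (wg (s.flatMap pairW) 0) 0) = true := by decide +kernel

theorem pres_cent {p : Pres} (hc : Commute p (pv cW)) (hi : Commute p (pv iW)) : p = 1 := by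
  apply H84.J4N.psi_injective
  rw [map_one]
  have hcomm : ∀ s : List ℕ, Commute p (pv (s.flatMap pairW)) := by
    intro s
    induction s with
    | nil => simp [Commute.one_right]
    | cons k s ih =>
      rw [List.flatMap_cons, H84.J4N.pv_append]
      refine Commute.mul_right ?_ ih
      rw [pairW]
      split_ifs
      · exact hc
      · exact hi
  have hmove : ∀ (s : List ℕ) (i : Fin 24),
      (psi p ((psi (pv (s.flatMap pairW)))⁻¹ i)) = (psi (pv (s.flatMap pairW)))⁻¹ (psi p i) :=
    fun s i => by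
      rw [← Equiv.Perm.mul_apply, ← Equiv.Perm.mul_apply, ((hcomm s).map psi).inv_right.eq]
  have h0 : psi p 0 = 0 := by
    by_contra hne
    have h := List.all_eq_true.1 stab_ok.1 (psi p 0).val (List.mem_range.2 (psi p 0).2)
    rw [Bool.or_eq_true, List.any_eq_true] at h
    rcases h with h | ⟨s, hs, hmv⟩
    · exact hne (Fin.ext (Nat.eq_of_beq_eq_true h))
    have hfix := List.all_eq_true.1 stab_ok.2 s hs
    have e0 : (psi (pv (s.flatMap pairW)))⁻¹ 0 = 0 := Fin.ext (by
      rw [← H84.J4N.wg_spec]; exact Nat.eq_of_beq_eq_true hfix)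
    have e := hmove s 0
    rw [e0] at e
    rw [Bool.not_eq_true', H84.J4N.wg_spec, ← e] at hmv
    simp at hmv
  refine Equiv.ext fun i => ?_
  have hr := List.all_eq_true.1 reach_ok i.val (List.mem_range.2 i.2)
  have ei : (psi (pv ((reachW.getD i.val []).flatMap pairW)))⁻¹ 0 = i := Fin.ext (by
    rw [← H84.J4N.wg_spec]; exact Nat.eq_of_beq_eq_true hr)
  rw [Equiv.Perm.one_apply, ← ei, hmove, h0]

theorem pair_fix : ((List.range 2048).all fun m => Nat.beq m 0 ||
    !(app (wordCols cW) m == m && app (wordCols iW) m == m)) = true := by decide +kernel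

/-- Nothing in the model commutes with both generators. -/
theorem cent_trivial {u : NN} (hc : Commute u genC) (hi : Commute u genI) : u = 1 := by
  have hp : u.right = 1 := pres_cent
    (show u.right * pv cW = pv cW * u.right by
      simpa [genC] using congrArg SemidirectProduct.right hc.eq)
    (show u.right * pv iW = pv iW * u.right by
      simpa [genI] using congrArg SemidirectProduct.right hi.eq)
  have hfix : ∀ w, Commute u (SemidirectProduct.inr (pv w) : NN) → act (pv w) u.left = u.left := by
    intro w hw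
    have := congrArg SemidirectProduct.left hw.eq
    simpa [hp] using this.symm
  refine SemidirectProduct.ext ?_ hp
  obtain ⟨m, hm, hmv⟩ := exists_vec u.left
  have h1 := hfix cW hc
  have h2 := hfix iW hi
  rw [← hmv, act_word] at h1 h2
  have hlt : ∀ m < 2048, app (wordCols cW) m < 2048 ∧ app (wordCols iW) m < 2048 := by
    decide +kernel
  have h := List.all_eq_true.1 pair_fix m (List.mem_range.2 hm)
  rw [vec_inj (hlt m hm).1 hm h1, vec_inj (hlt m hm).2 hm h2] at h
  simp only [beq_self_eq_true, Bool.and_self, Bool.not_true, Bool.or_false] at h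
  rw [← hmv, Nat.eq_of_beq_eq_true h]
  exact H94.J4.vec_zero

/-- The letters of `pv` for a word of `evw`. -/
def toPv (w : List ℕ) : List ℕ := (w.map H84.J4N.li).reverse

theorem evw_gen14 : ∀ w : List ℕ, (∀ l ∈ w, l < 3) →
    H77.HN.evw H94.J4.gen14 w = (SemidirectProduct.inr (pv (toPv w)) : NN)
  | [], _ => by simp [toPv]
  | l :: w, h => by
    have ih := evw_gen14 w fun x hx => h x (List.mem_cons_of_mem l hx)
    have hl : l < 3 := h l List.mem_cons_self
    have e : H94.J4.gen14 l = (SemidirectProduct.inr (lv (H84.J4N.li l)) : NN) := by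
      interval_cases l
      · rfl
      · rfl
      · rw [H94.J4.gen14_two]
        refine congrArg _ ?_
        show gB * gB = gB⁻¹
        exact eq_inv_of_mul_eq_one_left H54.J4.gB_cube
    simp only [toPv] at ih
    rw [H77.HN.evw_cons, ih, e, ← map_mul, toPv, List.map_cons, List.reverse_cons,
      H84.J4N.pv_append]
    simp [pv]

/-- The element of order three as a word in the fourteen letters. -/
def thE : List ℕ := [0,2,0,2,0,2,0,1,0,1,0,2,0,2,0,2,0,2,0,2,0,1,0,1,0,2,0,2,0,2,0,2,0,2,0,1,0,1,0,2,0,2,0,2,0,2,0,2,0,1,0,1,0,2,0,2,0,2,0,2,0,2,0,1,0,1,0,2,0,2,0,2,0,2,0,2,0,1,0,1,0,2,0,2,0,2,0,2,0,2,0,1,0,1,0,2,0,2]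

/-- The centralising generator as a word. -/
def naE : List ℕ := [0,2,0,2,0,2,0,1,0,1,0,2,0,2]

/-- The inverting generator as a word. -/
def nbE : List ℕ := [0,1,0,1,0,2,0,2,0,1,0,1,0,1,0,2,0,2,0,2,0,1,0,1,0,2,0,2,0,1,0,1,0,2,0,2,0,1,0,1,0,1,0,2,0,2,0,2,0,1,0,1,0,2,0,2,0]

theorem words_eq : toPv thE = thW ∧ toPv naE = cW ∧ toPv nbE = iW ∧
    (∀ l ∈ thE ++ naE ++ nbE, l < 3) := by decide +kernel

theorem theta_evw : H77.HN.evw H94.J4.gen14 thE = theta := by
  rw [evw_gen14 _ fun l hl => words_eq.2.2.2 l (by simp [hl]), words_eq.1]; rfl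

theorem genC_evw : H77.HN.evw H94.J4.gen14 naE = genC := by
  rw [evw_gen14 _ fun l hl => words_eq.2.2.2 l (by simp [hl]), words_eq.2.1]; rfl

theorem genI_evw : H77.HN.evw H94.J4.gen14 nbE = genI := by
  rw [evw_gen14 _ fun l hl => words_eq.2.2.2 l (by simp [hl]), words_eq.2.2.1]; rfl

end H74.J4Tau
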