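import Cfsg.Agent.H74.J4Tau.Center
import Cfsg.Agent.H74.J4Tau.Words

/-!
In a group of Janko-four type with a copy of the model there is an involution outside the copy
commuting with the images of the two normalising generators and of the fixed vectors.
-/

set_option autoImplicit false

namespace H74.J4Tau

open Subgroup
open H94.J4 (NN gen14 vec)
open H77.HN (evw)

variable {G : Type*} [Group G] [Finite G] [IsSimpleGroup G] {z : G} {P : Subgroup G}

/-- The element outside the copy of the model. -/
theorem exists_tau (hG : ¬ IsMulCommutative G) (hJ : Cfsg.IsOfJankoFourTypeWith z P) (j : NN →* G)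
    (hj : Function.Injective j) :
    ∃ t : G, t * t = 1 ∧ t ≠ 1 ∧ IsConj z t ∧ t ∉ j.range ∧
      Commute t (j (evw gen14 thE)) ∧ Commute t (j (evw gen14 naE)) ∧
      Commute t (j (evw gen14 nbE)) ∧
      ∀ m ∈ zMasks, Commute t (j (SemidirectProduct.inl (vec m))) := by
  have h3 : orderOf (j theta) = 3 := by
    rw [orderOf_injective j hj, orderOf_theta]
  obtain ⟨t, ht, hzt, hθt, hC, hN, -⟩ := exists_central_invol hG hJ h3
  have hmemC : ∀ x : NN, Commute x theta → Commute t (j x) := fun x hx =>
    (mem_centralizer_singleton_iff.1 (hC (mem_centralizer_singleton_iff.2 (hx.map j).eq))).symm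
  have hcI : Commute t (j genI) := by
    refine (mem_centralizer_singleton_iff.1 (hN ?_)).symm
    refine Subgroup.mem_normalizer_fintype fun q hq => ?_
    obtain ⟨k, rfl⟩ := mem_zpowers_iff.1 hq
    refine ⟨-k, ?_⟩
    show j theta ^ (-k) = j genI * j theta ^ k * (j genI)⁻¹
    rw [← conj_zpow, ← map_inv, ← map_mul, ← map_mul, genI_conj, map_inv, inv_zpow', zpow_neg]
  have hcC : Commute t (j genC) := hmemC _ genC_comm
  have ht1 : t ≠ 1 := fun e => by rw [e, orderOf_one] at ht; omega
  refine ⟨t, by rw [← pow_two, ← ht, pow_orderOf_eq_one], ht1, hzt, ?_, ?_, ?_, ?_,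
    fun m hm => hmemC _ (theta_comm_vec hm).symm⟩
  · rintro ⟨u, rfl⟩
    have e : u = 1 := cent_trivial (hj (by rw [map_mul, map_mul]; exact hcC.eq))
      (hj (by rw [map_mul, map_mul]; exact hcI.eq))
    exact ht1 (by rw [e, map_one])
  · rw [theta_evw]; exact hmemC _ (Commute.refl _)
  · rw [genC_evw]; exact hcC
  · rw [genI_evw]; exact hcI

end H74.J4Tau
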