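import Cfsg.Agent.H69.J4.LocalThree

/-!
Every element of order three of a group of Janko-four type has exactly one involution in the centre
of its centralizer; the normalizer of the cyclic group it generates centralises that involution.
-/

set_option autoImplicit false

namespace H74.J4Tau

open Subgroup
open Cfsg.Agent.H69.J4

variable {G : Type*} [Group G] [Finite G] [IsSimpleGroup G] {z : G} {P : Subgroup G}

/-- The central involution of the centralizer of an element of order three. -/
theorem exists_central_invol (hG : ¬ IsMulCommutative G) (hJ : Cfsg.IsOfJankoFourTypeWith z P)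
    {θ : G} (hθ : orderOf θ = 3) :
    ∃ t : G, orderOf t = 2 ∧ IsConj z t ∧ Commute θ t ∧
      centralizer ({θ} : Set G) ≤ centralizer ({t} : Set G) ∧
      normalizer (zpowers θ : Set G) ≤ centralizer ({t} : Set G) ∧
      ∀ u : G, orderOf u = 2 → Commute θ u → centralizer ({θ} : Set G) ≤ centralizer ({u} : Set G) →
        u = t := by
  classical
  haveI : Fact (Nat.Prime 3) := ⟨Nat.prime_three⟩
  have hP3 : Nat.card P = 3 := hJ.2.2.2.2.2.1
  obtain ⟨⟨p, hpP⟩, hp⟩ := exists_prime_orderOf_dvd_card' (G := P) 3 (by rw [hP3])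
  rw [Subgroup.orderOf_mk] at hp
  have hgen : zpowers p = P :=
    Subgroup.eq_of_le_of_card_ge (zpowers_le.2 hpP) (by rw [Nat.card_zpowers, hp, hP3])
  have hPN : centralizer ({p} : Set G) ≤ centralizer ({z} : Set G) := by
    refine le_trans (fun x hx => ?_) (normalizer_P_le hG hJ)
    refine (centralizer_le_normalizer (G := G) (s := (P : Set G))) ?_
    rw [← hgen, zpowers_eq_closure, centralizer_closure]
    exact hx
  have hC : centralizer ({z} : Set G) ⊓ centralizer (P : Set G) = centralizer ({p} : Set G) := by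
    rw [← hgen, zpowers_eq_closure, centralizer_closure]
    exact le_antisymm inf_le_right (le_inf hPN le_rfl)
  have hzp : Commute p z := by
    have h := (H42.J4.z_mem_cent hJ).2
    exact (mem_centralizer_iff.1 h p hpP)
  have huz : ∀ u : G, orderOf u = 2 → Commute p u →
      centralizer ({p} : Set G) ≤ centralizer ({u} : Set G) → u = z := by
    intro u hu hup hle
    have huC : u ∈ centralizer ({z} : Set G) ⊓ centralizer (P : Set G) := by
      rw [hC]
      exact mem_centralizer_singleton_iff.2 hup.eq.symm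
    have hcen : (⟨u, huC⟩ : ↥(centralizer ({z} : Set G) ⊓ centralizer (P : Set G))) ∈
        center ↥(centralizer ({z} : Set G) ⊓ centralizer (P : Set G)) :=
      mem_center_iff.2 fun c => Subtype.ext
        (mem_centralizer_singleton_iff.1 (hle (hC ▸ c.2)))
    obtain ⟨hce, -⟩ := H42.J4.center_cent hJ
    rw [hce, mem_subgroupOf] at hcen
    have h3 := H42.J4.cube_mem_z hJ hcen
    have h2 : u * u = 1 := by rw [← sq, ← hu, pow_orderOf_eq_one]
    have hu1 : u ≠ 1 := fun e => by rw [e, orderOf_one] at hu; omega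
    rw [pow_succ, sq, h2, one_mul] at h3
    obtain ⟨i, hi⟩ := mem_zpowers_iff.1 h3
    have hzz : z * z = 1 := by rw [← sq, ← hJ.1, pow_orderOf_eq_one]
    rcases Int.even_or_odd' i with ⟨j, rfl | rfl⟩
    · rw [zpow_mul, zpow_two, hzz, one_zpow] at hi
      exact absurd hi.symm hu1
    · rw [zpow_add, zpow_mul, zpow_two, hzz, one_zpow, one_mul, zpow_one] at hi
      exact hi.symm
  obtain ⟨g, rfl⟩ := isConj_iff.1 (one_class_three hG hJ hp hθ)
  have hcentconj : ∀ a x : G, x ∈ centralizer ({g * a * g⁻¹} : Set G) ↔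
      g⁻¹ * x * g ∈ centralizer ({a} : Set G) := by
    intro a x
    rw [mem_centralizer_singleton_iff, mem_centralizer_singleton_iff]
    constructor <;> intro h
    · calc g⁻¹ * x * g * a = g⁻¹ * (x * (g * a * g⁻¹)) * g := by group
        _ = g⁻¹ * ((g * a * g⁻¹) * x) * g := by rw [h]
        _ = a * (g⁻¹ * x * g) := by group
    · calc x * (g * a * g⁻¹) = g * (g⁻¹ * x * g * a) * g⁻¹ := by group
        _ = g * (a * (g⁻¹ * x * g)) * g⁻¹ := by rw [h]
        _ = g * a * g⁻¹ * x := by group
  refine ⟨g * z * g⁻¹, ?_, isConj_iff.2 ⟨g, rfl⟩, ?_, ?_, ?_, ?_⟩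
  · rw [← MulAut.conj_apply, MulEquiv.orderOf_eq, hJ.1]
  · exact hzp.map (MulAut.conj g).toMonoidHom
  · exact fun x hx => (hcentconj z x).2 (hPN ((hcentconj p x).1 hx))
  · intro x hx
    refine (hcentconj z x).2 (normalizer_P_le hG hJ ?_)
    refine Subgroup.mem_normalizer_fintype fun q hq => ?_
    rw [← hgen] at hq ⊢
    obtain ⟨k, rfl⟩ := mem_zpowers_iff.1 hq
    have hmem : (g * p * g⁻¹) ^ k ∈ zpowers (g * p * g⁻¹) := ⟨k, rfl⟩
    obtain ⟨l, hl⟩ := mem_zpowers_iff.1 ((mem_normalizer_iff.1 hx _).1 hmem)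
    rw [conj_zpow, conj_zpow] at hl
    refine ⟨l, ?_⟩
    calc p ^ l = g⁻¹ * (g * p ^ l * g⁻¹) * g := by group
      _ = g⁻¹ * (x * (g * p ^ k * g⁻¹) * x⁻¹) * g := by rw [hl]
      _ = g⁻¹ * x * g * p ^ k * (g⁻¹ * x * g)⁻¹ := by group
  · intro u hu hcu hle
    have e : g⁻¹ * u * g = z := by
      refine huz _ ?_ ?_ ?_
      · rw [show g⁻¹ * u * g = MulAut.conj g⁻¹ u by simp [MulAut.conj_apply], MulEquiv.orderOf_eq, hu]
      · have := hcu.map (MulAut.conj g⁻¹).toMonoidHom
        simpa [MulAut.conj_apply, mul_assoc] using this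
      · intro y hy
        have h1 : g * y * g⁻¹ ∈ centralizer ({g * p * g⁻¹} : Set G) :=
          (hcentconj p _).2 (by simpa [mul_assoc] using hy)
        have h2 := hle h1
        rw [show u = g * (g⁻¹ * u * g) * g⁻¹ by group] at h2
        have h3 := (hcentconj _ _).1 h2
        simpa [mul_assoc] using h3
    rw [← e]
    group

end H74.J4Tau
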